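import Mathlib

/-! Avoiding few subspaces, eigenvectors and hyperplanes over a field with at least four elements. -/

set_option autoImplicit false

namespace CfsgLib.RegUnipProduct

variable {K : Type*} [Field K]

/-- the field has at least four elements -/
def Four (K : Type*) : Prop := 4 ≤ Cardinal.mk K

theorem exists_avoid {k : ℕ} (hk : (k : Cardinal) < Cardinal.mk K) (P : Fin k → K → Prop)
    (hP : ∀ i t t', P i t → P i t' → t = t') : ∃ t, ∀ i, ¬ P i t := by
  classical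
  by_contra h
  push Not at h
  let f : Fin k → K := fun i => if h' : ∃ t, P i t then h'.choose else 0
  have hs : Function.Surjective f := fun t => by
    obtain ⟨i, hi⟩ := h t
    have h' : ∃ t, P i t := ⟨t, hi⟩
    refine ⟨i, ?_⟩
    simp only [f, dif_pos h']
    exact hP i _ _ h'.choose_spec hi
  have := Cardinal.mk_le_of_surjective (f := fun x : ULift (Fin k) => f x.down)
    (fun t => ⟨⟨(hs t).choose⟩, (hs t).choose_spec⟩)
  rw [Cardinal.mk_uLift, Cardinal.mk_fin, Cardinal.lift_natCast] at this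
  exact absurd hk (not_lt.2 this)

theorem three_lt (h4 : Four K) {k : ℕ} (hk : k ≤ 3) : (k : Cardinal) < Cardinal.mk K :=
  lt_of_lt_of_le (by exact_mod_cast (show k < 4 by omega)) h4

theorem five_le (h4 : Four K) (h2 : (2 : K) ≠ 0) : ((4 : ℕ) : Cardinal) < Cardinal.mk K := by
  rcases finite_or_infinite K with h | h
  · cases nonempty_fintype K
    rw [Four, Cardinal.mk_fintype] at h4
    rw [Cardinal.mk_fintype]
    have h4' : 4 ≤ Fintype.card K := by exact_mod_cast h4
    have hne : Fintype.card K ≠ 4 := fun e => by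
      have h0 := Nat.cast_card_eq_zero K
      rw [e] at h0
      push_cast at h0
      exact h2 (mul_self_eq_zero.1 (by linear_combination h0))
    exact_mod_cast (show 4 < Fintype.card K by omega)
  · exact lt_of_lt_of_le Cardinal.natCast_lt_aleph0 (Cardinal.aleph0_le_mk K)

variable {V : Type*} [AddCommGroup V] [Module K V]

theorem sub_of_mem {U : Submodule K V} {x y : V} {t t' : K} (hx : x ∉ U)
    (h : y + t • x ∈ U) (h' : y + t' • x ∈ U) : t = t' := by
  by_contra hne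
  have h1 : (t - t') • x ∈ U := by
    have := U.sub_mem h h'
    rwa [add_sub_add_left_eq_sub, ← sub_smul] at this
  exact hx ((U.smul_mem_iff (sub_ne_zero.2 hne)).1 h1)

theorem exists_notMem_two {U1 U2 : Submodule K V} (h1 : U1 ≠ ⊤) (h2 : U2 ≠ ⊤) :
    ∃ x, x ∉ U1 ∧ x ∉ U2 := by
  obtain ⟨a, ha⟩ := SetLike.exists_not_mem_of_ne_top U1 h1
  obtain ⟨b, hb⟩ := SetLike.exists_not_mem_of_ne_top U2 h2
  by_cases ha2 : a ∈ U2
  · by_cases hb1 : b ∈ U1
    · refine ⟨a + b, fun h => ha ?_, fun h => hb ?_⟩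
      · simpa using U1.sub_mem h hb1
      · simpa using U2.sub_mem h ha2
    · exact ⟨b, hb1, hb⟩
  · exact ⟨a, ha, ha2⟩

theorem exists_notMem_three (h4 : Four K) {U1 U2 U3 : Submodule K V} (h1 : U1 ≠ ⊤) (h2 : U2 ≠ ⊤)
    (h3 : U3 ≠ ⊤) : ∃ x, x ∉ U1 ∧ x ∉ U2 ∧ x ∉ U3 := by
  obtain ⟨x, hx1, hx2⟩ := exists_notMem_two h1 h2
  obtain ⟨y, hy⟩ := SetLike.exists_not_mem_of_ne_top U3 h3
  by_cases hx3 : x ∈ U3
  swap
  · exact ⟨x, hx1, hx2, hx3⟩
  obtain ⟨t, ht⟩ := exists_avoid (three_lt h4 (k := 2) (by norm_num))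
    ![fun t : K => y + t • x ∈ U1, fun t : K => y + t • x ∈ U2] (by
      intro i t t' h h'
      fin_cases i
      · exact sub_of_mem hx1 h h'
      · exact sub_of_mem hx2 h h')
  refine ⟨y + t • x, ht 0, ht 1, fun h => hy ?_⟩
  simpa using U3.sub_mem h (U3.smul_mem t hx3)

theorem exists_notMem_noneigen (h4 : Four K) (Q : V →ₗ[K] V) (hQ : ∀ μ : K, ∃ x, Q x ≠ μ • x)
    {U1 U2 : Submodule K V} (h1 : U1 ≠ ⊤) (h2 : U2 ≠ ⊤) :
    ∃ x, x ∉ U1 ∧ x ∉ U2 ∧ ∀ μ : K, Q x ≠ μ • x := by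
  obtain ⟨x, hx1, hx2⟩ := exists_notMem_two h1 h2
  by_cases hx : ∃ μ : K, Q x = μ • x
  swap
  · exact ⟨x, hx1, hx2, fun μ e => hx ⟨μ, e⟩⟩
  obtain ⟨l, hl⟩ := hx
  obtain ⟨y, hy⟩ := hQ l
  obtain ⟨t, ht⟩ := exists_avoid (three_lt h4 (k := 3) le_rfl)
    ![fun t : K => y + t • x ∈ U1, fun t : K => y + t • x ∈ U2,
      fun t : K => ∃ μ : K, Q (y + t • x) = μ • (y + t • x)] (by
      intro i t t' h h'
      fin_cases i
      · exact sub_of_mem hx1 h h'
      · exact sub_of_mem hx2 h h'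
      · obtain ⟨μ, hμ⟩ := h
        obtain ⟨ν, hν⟩ := h'
        by_contra hne
        rw [map_add, map_smul, hl] at hμ hν
        by_cases hμν : μ = ν
        · subst hμν
          have h5 : ((t - t') * (l - μ)) • x = 0 := by
            linear_combination (norm := module) hμ - hν
          have hx0 : x ≠ 0 := fun e => hx1 (e ▸ U1.zero_mem)
          have h6 : l = μ := sub_eq_zero.1 ((mul_eq_zero.1 ((smul_eq_zero.1 h5).resolve_right hx0)).resolve_left
            (sub_ne_zero.2 hne))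
          subst h6
          exact hy (by linear_combination (norm := module) hμ)
        · -- y is then a multiple of x
          have h5 : (μ - ν) • y = ((t - t') * l - μ * t + ν * t') • x := by
            linear_combination (norm := module) hν - hμ
          have h6 : y = ((μ - ν)⁻¹ * ((t - t') * l - μ * t + ν * t')) • x := by
            rw [← smul_smul, ← h5, smul_smul, inv_mul_cancel₀ (sub_ne_zero.2 hμν), one_smul]
          rw [h6, map_smul, hl, smul_comm] at hy
          exact hy rfl)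
  exact ⟨y + t • x, ht 0, ht 1, fun μ e => ht 2 ⟨μ, e⟩⟩

theorem exists_dual {p : Submodule K V} {z : V} (hz : z ∉ p) :
    ∃ f : V →ₗ[K] K, (∀ y ∈ p, f y = 0) ∧ f z ≠ 0 := by
  obtain ⟨f, hf, hp⟩ := Submodule.exists_dual_map_eq_bot_of_notMem hz inferInstance
  refine ⟨f, fun y hy => ?_, hf⟩
  have : f y ∈ p.map f := Submodule.mem_map_of_mem hy
  rwa [hp, Submodule.mem_bot] at this

theorem exists_functional (h4 : Four K) {u v : V} (hv : v ∉ Submodule.span K {u}) {z1 z2 z3 : V}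
    (h1 : z1 ∉ Submodule.span K {u}) (h2 : z2 ∉ Submodule.span K {u}) (h3 : z3 ∉ Submodule.span K {u}) :
    ∃ f : V →ₗ[K] K, f u = 0 ∧ f v = 1 ∧ f z1 ≠ 0 ∧ f z2 ≠ 0 ∧ f z3 ≠ 0 := by
  obtain ⟨f0, hf0, hfv⟩ := exists_dual hv
  set g : V →ₗ[K] K := (f0 v)⁻¹ • f0 with hgdef
  have hgu : g u = 0 := by simp [g, hf0 u (Submodule.mem_span_singleton_self u)]
  have hgv : g v = 1 := by simp [g, hfv]
  have step : ∀ (f : V →ₗ[K] K) (z : V), f u = 0 → f v = 1 → z ∉ Submodule.span K {u} → f z = 0 →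
      ∃ φ : V →ₗ[K] K, φ u = 0 ∧ φ v = 0 ∧ φ z ≠ 0 := by
    intro f z hu hv' hz hfz
    have hz' : z ∉ Submodule.span K ({u, v} : Set V) := by
      intro hmem
      obtain ⟨a, b, hab⟩ := Submodule.mem_span_pair.1 hmem
      have := congrArg f hab
      simp [hu, hv', hfz] at this
      rw [this, zero_smul, add_zero] at hab
      exact hz (hab ▸ Submodule.smul_mem _ a (Submodule.mem_span_singleton_self u))
    obtain ⟨φ, hφ, hφz⟩ := exists_dual hz'
    exact ⟨φ, hφ u (Submodule.subset_span (by simp)), hφ v (Submodule.subset_span (by simp)), hφz⟩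
  have uniq : ∀ (f φ : V →ₗ[K] K) (z : V) (t t' : K), (f z ≠ 0 ∨ φ z ≠ 0) →
      f z + t * φ z = 0 → f z + t' * φ z = 0 → t = t' := by
    intro f φ z t t' hor h h'
    by_cases hφ : φ z = 0
    · rw [hφ, mul_zero, add_zero] at h
      exact absurd h (hor.resolve_right (fun c => c hφ))
    · exact mul_right_cancel₀ hφ (by linear_combination h - h')
  -- first two targets
  obtain ⟨a, hau, hav, ha1⟩ : ∃ f : V →ₗ[K] K, f u = 0 ∧ f v = 1 ∧ f z1 ≠ 0 := by
    by_cases hg : g z1 = 0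
    · obtain ⟨φ, p1, p2, p3⟩ := step g z1 hgu hgv h1 hg
      exact ⟨g + φ, by simp [hgu, p1], by simp [hgv, p2], by simp [hg, p3]⟩
    · exact ⟨g, hgu, hgv, hg⟩
  obtain ⟨b, hbu, hbv, hb1, hb2⟩ : ∃ f : V →ₗ[K] K, f u = 0 ∧ f v = 1 ∧ f z1 ≠ 0 ∧ f z2 ≠ 0 := by
    by_cases hg : a z2 = 0
    · obtain ⟨φ, p1, p2, p3⟩ := step a z2 hau hav h2 hg
      obtain ⟨t, ht⟩ := exists_avoid (three_lt h4 (k := 2) (by norm_num))
        ![fun t : K => a z1 + t * φ z1 = 0, fun t : K => a z2 + t * φ z2 = 0] (by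
          intro i t t' h h'
          fin_cases i
          · exact uniq a φ z1 t t' (Or.inl ha1) h h'
          · exact uniq a φ z2 t t' (Or.inr p3) h h')
      exact ⟨a + t • φ, by simp [hau, p1], by simp [hav, p2], by simpa using ht 0, by simpa using ht 1⟩
    · exact ⟨a, hau, hav, ha1, hg⟩
  by_cases hg : b z3 = 0
  · obtain ⟨φ, p1, p2, p3⟩ := step b z3 hbu hbv h3 hg
    obtain ⟨t, ht⟩ := exists_avoid (three_lt h4 (k := 3) le_rfl)
      ![fun t : K => b z1 + t * φ z1 = 0, fun t : K => b z2 + t * φ z2 = 0,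
        fun t : K => b z3 + t * φ z3 = 0] (by
        intro i t t' h h'
        fin_cases i
        · exact uniq b φ z1 t t' (Or.inl hb1) h h'
        · exact uniq b φ z2 t t' (Or.inl hb2) h h'
        · exact uniq b φ z3 t t' (Or.inr p3) h h')
    exact ⟨b + t • φ, by simp [hbu, p1], by simp [hbv, p2], by simpa using ht 0, by simpa using ht 1,
      by simpa using ht 2⟩
  · exact ⟨b, hbu, hbv, hb1, hb2, hg⟩

end CfsgLib.RegUnipProduct
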