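import Cfsg.Agent.Lib.RegUnipProduct.Avoid

/-! A map of determinant one as a product of two regular unipotent maps in general position. -/

set_option autoImplicit false

namespace CfsgLib.RegUnipProduct

open Module

variable {K : Type*} [Field K] {V : Type*} [AddCommGroup V] [Module K V]

/-- the image of `S - 1` lies on a line -/
def Small (S : V →ₗ[K] V) : Prop := ∃ z : V, ∀ x, ∃ t : K, S x - x = t • z

/-- the map is a scalar -/
def Scalar (S : V →ₗ[K] V) : Prop := ∃ μ : K, ∀ x, S x = μ • x

/-- the conclusion of the factorisation -/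
def Split (m : ℕ) (S : V →ₗ[K] V) (c : V) (b : V →ₗ[K] K) : Prop :=
  ∃ L U : Module.End K V, S = L * U ∧ (L - 1) ^ m = 0 ∧ ((L - 1) ^ (m - 1)) c ≠ 0 ∧
    (U - 1) ^ m = 0 ∧ b.comp ((U - 1) ^ (m - 1)) ≠ 0

section Step

variable (S : V →ₗ[K] V) (v : V) (f : V →ₗ[K] K)

/-- projection to the kernel of the functional along the chosen vector -/
def prW (hfv : f v = 1) : V →ₗ[K] LinearMap.ker f :=
  (LinearMap.id - f.smulRight v).codRestrict _ fun x => by
    simp [LinearMap.mem_ker, hfv]

/-- the map induced on the hyperplane -/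
def red (hfS : f (S v) = 1) : LinearMap.ker f →ₗ[K] LinearMap.ker f :=
  ((LinearMap.id - f.smulRight (S v)).comp (S.comp (LinearMap.ker f).subtype)).codRestrict _ fun x => by
    simp [LinearMap.mem_ker, hfS]

variable {S v f} (hfv : f v = 1) (hfS : f (S v) = 1)

theorem coe_prW (x : V) : (prW v f hfv x : V) = x - f x • v := rfl

theorem coe_red (w : LinearMap.ker f) : (red S v f hfS w : V) = S w - f (S w) • S v := rfl

theorem prW_coe (w : LinearMap.ker f) : prW v f hfv (w : V) = w := by
  apply Subtype.ext
  rw [coe_prW, LinearMap.mem_ker.1 w.2, zero_smul, sub_zero]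

include hfv in
theorem det_red [FiniteDimensional K V] (hdet : LinearMap.det S = 1) : LinearMap.det (red S v f hfS) = 1 := by
  let e : (K × LinearMap.ker f) ≃ₗ[K] V := LinearEquiv.ofLinear
    (LinearMap.coprod (LinearMap.toSpanSingleton K V v) (LinearMap.ker f).subtype)
    (LinearMap.prod f (prW v f hfv))
    (by ext x; simp [coe_prW])
    (by
      apply LinearMap.ext
      rintro ⟨a, w⟩
      have hw : f (w : V) = 0 := LinearMap.mem_ker.1 w.2
      refine Prod.ext ?_ (Subtype.ext ?_)
      · simp [hfv, hw]
      · simp [coe_prW, hfv, hw])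
  let bp : V →ₗ[K] K := f.comp (S.comp ((LinearMap.ker f).subtype.comp (prW v f hfv)))
  have hfu : f (S v - v) = 0 := by rw [map_sub, hfS, hfv, sub_self]
  have hS : S = LinearMap.transvection f (S v - v) ∘ₗ
      ((e : (K × LinearMap.ker f) →ₗ[K] V) ∘ₗ (LinearMap.id.prodMap (red S v f hfS)) ∘ₗ
        (e.symm : V →ₗ[K] (K × LinearMap.ker f))) ∘ₗ LinearMap.transvection bp v := by
    apply LinearMap.ext
    intro x
    have hpr : prW v f hfv (x + bp x • v) = prW v f hfv x := by
      apply Subtype.ext; simp [coe_prW, hfv, add_smul]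
    have hx : S x = f x • S v + S (prW v f hfv x : V) := by rw [coe_prW, map_sub, map_smul]; abel
    have he : e (f (x + bp x • v), red S v f hfS (prW v f hfv (x + bp x • v))) =
        (f x + bp x) • v + (red S v f hfS (prW v f hfv x) : V) := by
      rw [hpr]; simp [e, hfv]
    show S x = (LinearMap.transvection f (S v - v))
      (e (f (x + bp x • v), red S v f hfS (prW v f hfv (x + bp x • v))))
    rw [he]
    have hfr : f (red S v f hfS (prW v f hfv x) : V) = 0 := LinearMap.mem_ker.1 (red S v f hfS (prW v f hfv x)).2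
    have hb : bp x = f (S (prW v f hfv x : V)) := rfl
    change S x = _ + f _ • (S v - v)
    simp only [map_add, map_smul, smul_eq_mul, hfv, hfr, mul_one, add_zero]
    rw [hx, coe_red, hb]
    module
  have hb0 : bp v = 0 := by
    have : prW v f hfv v = 0 := Subtype.ext (by simp [coe_prW, hfv])
    simp [bp, this]
  have h := congrArg LinearMap.det hS
  rw [hdet, LinearMap.det_comp, LinearMap.det_comp, LinearMap.transvection.det, LinearMap.transvection.det,
    LinearMap.det_conj, LinearMap.det_prodMap, LinearMap.det_id, hfu, hb0] at h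
  simpa using h.symm

include hfv hfS in
/-- lifting a splitting from the hyperplane -/
theorem split_of_red {k : ℕ} {c : V} {b : V →ₗ[K] K} (hc : f c ≠ 0) (hb : b v ≠ 0)
    (h : Split (k + 1) (red S v f hfS) ⟨S v - v, LinearMap.mem_ker.2 (by rw [map_sub, hfS, hfv, sub_self])⟩
      (f.comp (S.comp (LinearMap.ker f).subtype))) :
    Split (k + 2) S c b := by
  obtain ⟨L', U', hred, hL0, hL1, hU0, hU1⟩ := h
  set pr := prW v f hfv with hprdef
  set u : (LinearMap.ker f) := ⟨S v - v, LinearMap.mem_ker.2 (by rw [map_sub, hfS, hfv, sub_self])⟩ with hu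
  set b' : (LinearMap.ker f) →ₗ[K] K := f.comp (S.comp (LinearMap.ker f).subtype) with hb'
  let L : Module.End K V := f.smulRight (S v) + ((LinearMap.ker f).subtype.comp (L'.comp pr))
  let U : Module.End K V := (f + b'.comp pr).smulRight v + ((LinearMap.ker f).subtype.comp (U'.comp pr))
  have hdec : ∀ x : V, x = f x • v + (pr x : V) := fun x => by rw [hprdef, coe_prW]; abel
  have hA : ∀ (j : ℕ) (x : V), ((L - 1) ^ (j + 1)) x =
      f x • (((L' - 1) ^ j) u : V) + ((((L' - 1) ^ (j + 1)) (pr x) : (LinearMap.ker f)) : V) := by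
    intro j
    induction j with
    | zero =>
      intro x
      simp only [zero_add, pow_one, pow_zero, Module.End.one_apply, LinearMap.sub_apply, L,
        LinearMap.add_apply, LinearMap.smulRight_apply, LinearMap.comp_apply, Submodule.coe_subtype,
        Submodule.coe_sub, hu]
      conv_lhs => arg 2; rw [hdec x]
      module
    | succ j ih =>
      intro x
      rw [pow_succ' (L - 1), Module.End.mul_apply, ih x]
      set w : (LinearMap.ker f) := f x • ((L' - 1) ^ j) u + ((L' - 1) ^ (j + 1)) (pr x) with hw
      have hwc : f x • (((L' - 1) ^ j) u : V) + ((((L' - 1) ^ (j + 1)) (pr x) : (LinearMap.ker f)) : V) = (w : V) := by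
        simp [hw]
      have hstep : ∀ z : (LinearMap.ker f), (L - 1) (z : V) = ((L' - 1) z : (LinearMap.ker f)) := by
        intro z
        have hz : f (z : V) = 0 := LinearMap.mem_ker.1 z.2
        simp [L, hz, hprdef, prW_coe]
      rw [hwc, hstep, hw, map_add, map_smul, ← Module.End.mul_apply, ← Module.End.mul_apply, ← pow_succ', ← pow_succ']
      simp
  have hB : ∀ (j : ℕ) (x : V), ((U - 1) ^ (j + 1)) x =
      b' (((U' - 1) ^ j) (pr x)) • v + ((((U' - 1) ^ (j + 1)) (pr x) : (LinearMap.ker f)) : V) := by
    intro j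
    induction j with
    | zero =>
      intro x
      simp only [zero_add, pow_one, pow_zero, Module.End.one_apply, LinearMap.sub_apply, U,
        LinearMap.add_apply, LinearMap.smulRight_apply, LinearMap.comp_apply, Submodule.coe_subtype,
        Submodule.coe_sub]
      conv_lhs => arg 2; rw [hdec x]
      module
    | succ j ih =>
      intro x
      rw [pow_succ' (U - 1), Module.End.mul_apply, ih x]
      have hprv : pr v = 0 := Subtype.ext (by simp [hprdef, coe_prW, hfv])
      have hv0 : (U - 1) v = 0 := by simp [U, hprv, hfv]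
      have hstep : ∀ z : (LinearMap.ker f), (U - 1) (z : V) = b' z • v + ((U' - 1) z : (LinearMap.ker f)) := by
        intro z
        have hz : f (z : V) = 0 := LinearMap.mem_ker.1 z.2
        simp [U, hz, hprdef, prW_coe]
        abel
      rw [map_add, map_smul, hv0, smul_zero, zero_add, hstep, ← Module.End.mul_apply (U' - 1), ← pow_succ']
  refine ⟨L, U, ?_, ?_, ?_, ?_, ?_⟩
  · apply LinearMap.ext
    intro x
    rw [Module.End.mul_apply]
    have hfU : f (U x) = f x + b' (pr x) := by
      simp [U, hfv, LinearMap.mem_ker.1 (U' (pr x)).2]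
    have hpU : pr (U x) = U' (pr x) := by
      apply Subtype.ext
      rw [hprdef, coe_prW, hfU]
      simp [U]
      abel
    show S x = f (U x) • S v + ((L' (pr (U x)) : (LinearMap.ker f)) : V)
    rw [hfU, hpU, ← Module.End.mul_apply L' U', ← hred, coe_red]
    conv_lhs => rw [hdec x, map_add, map_smul]
    simp only [hb', LinearMap.comp_apply, Submodule.coe_subtype]
    module
  · apply LinearMap.ext
    intro x
    rw [show k + 2 = (k + 1) + 1 from rfl, hA, hL0, pow_succ' (L' - 1) (k + 1), hL0, mul_zero]
    simp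
  · rw [show k + 2 - 1 = k + 1 from rfl, hA, hL0]
    simp only [Nat.add_sub_cancel] at hL1
    have h0 : (((L' - 1) ^ k) u : V) ≠ 0 := fun e => hL1 (Subtype.ext e)
    simpa using smul_ne_zero hc h0
  · apply LinearMap.ext
    intro x
    rw [show k + 2 = (k + 1) + 1 from rfl, hB, hU0, pow_succ' (U' - 1) (k + 1), hU0, mul_zero]
    simp
  · intro e
    simp only [Nat.add_sub_cancel] at hU1
    apply hU1
    apply LinearMap.ext
    intro w
    have h := LinearMap.congr_fun e (w : V)
    rw [show k + 2 - 1 = k + 1 from rfl, LinearMap.comp_apply, hB, hU0, hprdef, prW_coe] at h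
    simp only [LinearMap.zero_apply, ZeroMemClass.coe_zero, add_zero, map_smul, smul_eq_mul,
      mul_eq_zero] at h
    exact h.resolve_right hb

include hfv hfS in
theorem line_of_small_red (h : Small (red S v f hfS)) :
    ∃ z : V, f z = 0 ∧ ∀ w : V, f w = 0 → ∃ t s : K, S w - w = t • z + s • S v := by
  obtain ⟨z, hz⟩ := h
  refine ⟨z, LinearMap.mem_ker.1 z.2, fun w hw => ?_⟩
  obtain ⟨t, ht⟩ := hz ⟨w, LinearMap.mem_ker.2 hw⟩
  have h := congrArg Subtype.val ht
  simp only [Submodule.coe_sub, Submodule.coe_smul, coe_red] at h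
  exact ⟨t, f (S w), by linear_combination (norm := module) h⟩

include hfv hfS in
/-- two different hyperplanes cannot both give scalars -/
theorem not_two_scalar [FiniteDimensional K V] (h3 : 3 ≤ finrank K V) (hdet : LinearMap.det S = 1)
    (hne : ∀ μ : K, S v ≠ μ • v) {g : V →ₗ[K] K} (hgv : g v = 1) (hgS : g (S v) = 1) (hfg : f ≠ g)
    (h1 : Scalar (red S v f hfS)) (h2 : Scalar (red S v g hgS)) : False := by
  obtain ⟨a, ha⟩ := h1
  obtain ⟨b, hb⟩ := h2
  have ha' : ∀ w : V, f w = 0 → S w = a • w + f (S w) • S v := by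
    intro w hw
    have h := congrArg Subtype.val (ha ⟨w, LinearMap.mem_ker.2 hw⟩)
    simp only [Submodule.coe_smul, coe_red] at h
    linear_combination (norm := module) h
  have hb' : ∀ w : V, g w = 0 → S w = b • w + g (S w) • S v := by
    intro w hw
    have h := congrArg Subtype.val (hb ⟨w, LinearMap.mem_ker.2 hw⟩)
    simp only [Submodule.coe_smul, coe_red] at h
    linear_combination (norm := module) h
  obtain ⟨x, hx, hx0⟩ : ∃ x : V, x ∈ LinearMap.ker f ⊓ LinearMap.ker g ∧ x ≠ 0 := by
    refine Submodule.exists_mem_ne_zero_of_ne_bot fun hb0 => ?_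
    have hk : ∀ φ : V →ₗ[K] K, finrank K V ≤ finrank K (LinearMap.ker φ) + 1 := by
      intro φ
      have h := LinearMap.finrank_range_add_finrank_ker φ
      have h' := Submodule.finrank_le (LinearMap.range φ)
      rw [finrank_self] at h'
      omega
    have h := Submodule.finrank_sup_add_finrank_inf_eq (LinearMap.ker f) (LinearMap.ker g)
    rw [hb0, finrank_bot] at h
    have := Submodule.finrank_le (LinearMap.ker f ⊔ LinearMap.ker g)
    have := hk f
    have := hk g
    omega
  rw [Submodule.mem_inf, LinearMap.mem_ker, LinearMap.mem_ker] at hx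
  have hab : a = b := by
    have h := (ha' x hx.1).symm.trans (hb' x hx.2)
    have hs : f (S x) = g (S x) := by
      have h' := congrArg f h
      simpa [hx.1, hfS] using h'
    rw [hs, add_left_inj] at h
    exact smul_left_injective K hx0 h
  subst hab
  obtain ⟨w', hw', hw''⟩ : ∃ w', g w' = 0 ∧ f w' ≠ 0 := by
    by_contra hc
    push Not at hc
    apply hfg
    apply LinearMap.ext
    intro x
    have h := hc (x - g x • v) (by simp [hgv])
    simp [hfv] at h
    linear_combination h
  -- on the chosen vector
  have hD : ∃ s : K, S v - a • v = s • S v := by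
    have hw : f (w' - f w' • v) = 0 := by simp [hfv]
    have h1 := ha' _ hw
    have h2 := hb' w' hw'
    rw [map_sub, map_smul] at h1
    refine ⟨(f w')⁻¹ * (g (S w') - f (S w' - f w' • S v)), ?_⟩
    have h3 : f w' • (S v - a • v) = (g (S w') - f (S w' - f w' • S v)) • S v := by
      linear_combination (norm := module) h2 - h1
    rw [← smul_smul, ← h3, smul_smul, inv_mul_cancel₀ hw'', one_smul]
  obtain ⟨s, hs⟩ := hD
  have h4 : (1 - s) • S v = a • v := by linear_combination (norm := module) hs
  by_cases hs1 : 1 - s = 0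
  · have hv0 : v ≠ 0 := fun e => by rw [e, map_zero] at hfv; exact zero_ne_one hfv
    rw [hs1, zero_smul] at h4
    have ha0 : a = 0 := (smul_eq_zero.1 h4.symm).resolve_right hv0
    have hd := det_red hfv hfS hdet
    rw [show red S v f hfS = 0 from LinearMap.ext fun x => by rw [ha x, ha0, zero_smul]; rfl] at hd
    haveI : Nontrivial (LinearMap.ker f) := ⟨⟨⟨x, LinearMap.mem_ker.2 hx.1⟩, 0, fun e => hx0 (congrArg Subtype.val e)⟩⟩
    rw [LinearMap.det_zero' (Module.Free.chooseBasis K _)] at hd
    exact zero_ne_one hd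
  · refine hne ((1 - s)⁻¹ * a) ?_
    rw [← smul_smul, ← h4, smul_smul, inv_mul_cancel₀ hs1, one_smul]

end Step

theorem finrank_span_pair_le [FiniteDimensional K V] (p q : V) :
    finrank K (Submodule.span K ({p, q} : Set V)) ≤ 2 := by
  classical
  have h := finrank_span_finset_le_card (R := K) ({p, q} : Finset V)
  rw [Finset.coe_pair] at h
  exact h.trans (Finset.card_le_two)

/-- in dimension three a fixed line outside the image is excluded -/
theorem false_of_kernel [FiniteDimensional K V] (h3 : finrank K V = 3) {S : V →ₗ[K] V}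
    (hdet : LinearMap.det S = 1) (hsm : ¬ Small S) {v : V} (hv : ∀ x, S x - x ≠ v)
    (hu : S (S v - v) = S v - v) (hker : ∀ x, S x = x → ∃ t : K, x = t • (S v - v)) : False := by
  set u := S v - v with hudef
  have hu0 : u ≠ 0 := fun e => hsm ⟨0, fun x => by
    -- everything is then fixed
    exfalso
    exact hv 0 (by
      have := hker v (by rw [← sub_eq_zero, ← hudef, e])
      obtain ⟨t, ht⟩ := this
      rw [e, smul_zero] at ht
      simp [ht])⟩
  obtain ⟨x0, hx0⟩ : ∃ x0, ∀ t : K, S x0 - x0 ≠ t • u := by
    by_contra hc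
    push Not at hc
    exact hsm ⟨u, hc⟩
  set p := S x0 - x0
  let N : V →ₗ[K] V := S - LinearMap.id
  have hN : ∀ x, N x = S x - x := fun x => rfl
  have hli : LinearIndependent K ![u, p, v] := by
    rw [Fintype.linearIndependent_iff]
    intro g hg
    simp only [Fin.sum_univ_three, Matrix.cons_val_zero, Matrix.cons_val_one, Matrix.cons_val] at hg
    have h2 : g 2 = 0 := by
      by_contra h
      refine hv (-(g 2)⁻¹ • (g 0 • v + g 1 • x0)) ?_
      have e : S (g 0 • v + g 1 • x0) - (g 0 • v + g 1 • x0) = g 0 • u + g 1 • p := by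
        rw [map_add, map_smul, map_smul, hudef]
        module
      rw [map_smul, ← smul_sub, e, eq_neg_of_add_eq_zero_left hg, smul_neg, neg_smul, neg_neg, smul_smul,
        inv_mul_cancel₀ h, one_smul]
    rw [h2, zero_smul, add_zero] at hg
    have h1 : g 1 = 0 := by
      by_contra h
      refine hx0 (-(g 1)⁻¹ * g 0) ?_
      rw [← smul_smul, eq_neg_of_add_eq_zero_left hg, smul_neg, neg_smul, neg_neg, smul_smul,
        inv_mul_cancel₀ h, one_smul]
    rw [h1, zero_smul, add_zero] at hg
    have h0 : g 0 = 0 := (smul_eq_zero.1 hg).resolve_right hu0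
    intro i
    fin_cases i <;> assumption
  let B : Basis (Fin 3) K V := basisOfLinearIndependentOfCardEqFinrank hli (by rw [h3]; rfl)
  have hB : ⇑B = ![u, p, v] := coe_basisOfLinearIndependentOfCardEqFinrank _ _
  obtain ⟨α, β, hαβ⟩ : ∃ α β : K, N p = α • u + β • p := by
    have hr : finrank K (LinearMap.range N) ≤ 2 := by
      have h := LinearMap.finrank_range_add_finrank_ker N
      have : 1 ≤ finrank K (LinearMap.ker N) := by
        rw [Nat.one_le_iff_ne_zero]
        intro e
        have h' : u ∈ LinearMap.ker N := by rw [LinearMap.mem_ker, hN, hu, sub_self]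
        rw [Submodule.finrank_eq_zero.1 e, Submodule.mem_bot] at h'
        exact hu0 h'
      omega
    have hle : Submodule.span K ({u, p} : Set V) ≤ LinearMap.range N := by
      rw [Submodule.span_le]
      rintro y (rfl | rfl)
      · exact ⟨v, rfl⟩
      · exact ⟨x0, rfl⟩
    have h2 : finrank K (Submodule.span K ({u, p} : Set V)) = 2 := by
      have : LinearIndependent K ![u, p] := by
        have := hli.comp ![0, 1] (by decide)
        convert this using 1
        ext i; fin_cases i <;> rfl
      have h := finrank_span_eq_card this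
      rwa [Matrix.range_cons, Matrix.range_cons, Matrix.range_empty, Set.union_empty, Set.singleton_union,
        Fintype.card_fin] at h
    have heq : Submodule.span K ({u, p} : Set V) = LinearMap.range N :=
      Submodule.eq_of_le_of_finrank_le hle (by omega)
    have : N p ∈ Submodule.span K ({u, p} : Set V) := heq ▸ ⟨p, rfl⟩
    obtain ⟨α, β, e⟩ := Submodule.mem_span_pair.1 this
    exact ⟨α, β, e.symm⟩
  have hSu : S u = (1 : K) • u + (0 : K) • p + (0 : K) • v := by rw [hu]; simp
  have hSp : S p = α • u + (1 + β) • p + (0 : K) • v := by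
    rw [show S p = N p + p by rw [hN]; abel, hαβ]; module
  have hSv : S v = (1 : K) • u + (0 : K) • p + (1 : K) • v := by rw [hudef]; module
  have hM : LinearMap.toMatrix B B S = !![1, α, 1; 0, 1 + β, 0; 0, 0, 1] := by
    ext i j
    rw [LinearMap.toMatrix_apply]
    have hrep : ∀ a b c : K, B.repr (a • u + b • p + c • v) = Finsupp.equivFunOnFinite.symm ![a, b, c] := by
      intro a b c
      have : a • u + b • p + c • v = ∑ k, ![a, b, c] k • B k := by simp [Fin.sum_univ_three, hB]
      rw [this]
      ext k
      rw [Basis.repr_sum_self]; rfl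
    fin_cases j
    · simp only [hB, Fin.zero_eta, Matrix.cons_val_zero]
      rw [hSu, hrep]
      fin_cases i <;> rfl
    · simp only [hB, Fin.mk_one, Matrix.cons_val_one, Matrix.cons_val_zero]
      rw [hSp, hrep]
      fin_cases i <;> rfl
    · simp only [hB, Fin.reduceFinMk, Matrix.cons_val]
      rw [hSv, hrep]
      fin_cases i <;> rfl
  rw [← LinearMap.det_toMatrix B, hM, Matrix.det_fin_three] at hdet
  simp at hdet
  subst hdet
  -- then the image of `S - 1` is one line
  apply hsm
  refine ⟨u, fun x => ?_⟩
  have hx := B.sum_repr x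
  simp only [Fin.sum_univ_three, hB, Matrix.cons_val_zero, Matrix.cons_val_one, Matrix.cons_val] at hx
  refine ⟨B.repr x 1 * α + B.repr x 2, ?_⟩
  rw [← hN]
  conv_lhs => rw [← hx, map_add, map_add, map_smul, map_smul, map_smul, hαβ, hN u, hu, hN v, ← hudef]
  module

/-- in dimension three without fixed vectors the auxiliary operator is not scalar -/
theorem aux_not_scalar [FiniteDimensional K V] (h3 : finrank K V = 3) {S : V →ₗ[K] V}
    (hdet : LinearMap.det S = 1) {w0 : V} (hw0 : ∀ μ : K, S w0 ≠ μ • w0) {t : K} (ht : t ≠ 0)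
    (h : ∀ x, S x = t • (S (S x - x) - (S x - x))) : False := by
  have hq : ∀ x, S (S x) = (2 + t⁻¹) • S x - x := by
    intro x
    have e := congrArg (fun z => t⁻¹ • z) (h x)
    simp only [smul_smul, inv_mul_cancel₀ ht, one_smul, map_sub] at e
    linear_combination (norm := module) -e
  have hw00 : w0 ≠ 0 := fun e => hw0 0 (by rw [e, map_zero, smul_zero])
  obtain ⟨y, hy⟩ := SetLike.exists_not_mem_of_ne_top (Submodule.span K ({w0, S w0} : Set V)) (fun e => by
    have := finrank_span_pair_le (K := K) w0 (S w0)
    rw [e, finrank_top, h3] at this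
    omega)
  have hli : LinearIndependent K ![w0, S w0, y] := by
    rw [Fintype.linearIndependent_iff]
    intro g hg
    simp only [Fin.sum_univ_three, Matrix.cons_val_zero, Matrix.cons_val_one, Matrix.cons_val] at hg
    have h2 : g 2 = 0 := by
      by_contra h
      refine hy (Submodule.mem_span_pair.2 ⟨-(g 2)⁻¹ * g 0, -(g 2)⁻¹ * g 1, ?_⟩)
      rw [← smul_smul, ← smul_smul, ← smul_add, eq_neg_of_add_eq_zero_left hg, smul_neg, neg_smul, neg_neg,
        smul_smul, inv_mul_cancel₀ h, one_smul]
    rw [h2, zero_smul, add_zero] at hg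
    have h1 : g 1 = 0 := by
      by_contra h
      refine hw0 (-(g 1)⁻¹ * g 0) ?_
      rw [← smul_smul, eq_neg_of_add_eq_zero_left hg, smul_neg, neg_smul, neg_neg, smul_smul,
        inv_mul_cancel₀ h, one_smul]
    rw [h1, zero_smul, add_zero] at hg
    have h0 : g 0 = 0 := (smul_eq_zero.1 hg).resolve_right hw00
    intro i
    fin_cases i <;> assumption
  let B : Basis (Fin 3) K V := basisOfLinearIndependentOfCardEqFinrank hli (by rw [h3]; rfl)
  have hB : ⇑B = ![w0, S w0, y] := coe_basisOfLinearIndependentOfCardEqFinrank _ _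
  have hy' := B.sum_repr (S y)
  simp only [Fin.sum_univ_three, hB, Matrix.cons_val_zero, Matrix.cons_val_one, Matrix.cons_val] at hy'
  set α := B.repr (S y) 0
  set β := B.repr (S y) 1
  set γ := B.repr (S y) 2
  have hM : LinearMap.toMatrix B B S = !![0, -1, α; 1, 2 + t⁻¹, β; 0, 0, γ] := by
    ext i j
    rw [LinearMap.toMatrix_apply]
    have hrep : ∀ a b c : K, B.repr (a • w0 + b • S w0 + c • y) = Finsupp.equivFunOnFinite.symm ![a, b, c] := by
      intro a b c
      have : a • w0 + b • S w0 + c • y = ∑ k, ![a, b, c] k • B k := by simp [Fin.sum_univ_three, hB]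
      rw [this]
      ext k
      rw [Basis.repr_sum_self]; rfl
    have h0 : S w0 = (0 : K) • w0 + (1 : K) • S w0 + (0 : K) • y := by simp
    have h1 : S (S w0) = (-1 : K) • w0 + (2 + t⁻¹) • S w0 + (0 : K) • y := by rw [hq]; module
    fin_cases j
    · simp only [hB, Fin.zero_eta, Matrix.cons_val_zero]
      rw [h0, hrep]
      fin_cases i <;> rfl
    · simp only [hB, Fin.mk_one, Matrix.cons_val_one, Matrix.cons_val_zero]
      rw [h1, hrep]
      fin_cases i <;> rfl
    · simp only [hB, Fin.reduceFinMk, Matrix.cons_val]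
      fin_cases i <;> rfl
  rw [← LinearMap.det_toMatrix B, hM, Matrix.det_fin_three] at hdet
  simp at hdet
  have e := hq y
  rw [← hy', map_add, map_add, map_smul, map_smul, map_smul, hq w0, ← hy'] at e
  have e2 := congrArg (fun z => B.repr z 2) e
  have hb0 : B.repr w0 2 = 0 := by rw [show w0 = B 0 by simp [hB], Basis.repr_self]; simp
  have hb1 : B.repr (S w0) 2 = 0 := by rw [show S w0 = B 1 by simp [hB], Basis.repr_self]; simp
  have hb2 : B.repr y 2 = 1 := by rw [show y = B 2 by simp [hB], Basis.repr_self]; simp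
  simp [hb0, hb1, hb2] at e2
  apply inv_ne_zero ht
  rw [hdet] at e2
  linear_combination -e2

end CfsgLib.RegUnipProduct
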