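import Cfsg.Agent.Lib.RegUnipProduct.Core

/-! A non-scalar map of determinant one is a product of two regular unipotent maps. -/

set_option autoImplicit false

universe u1 u2

namespace CfsgLib.RegUnipProduct

open Module

variable {K : Type u1} [Field K]

section Select

variable {V : Type u2} [AddCommGroup V] [Module K V] [FiniteDimensional K V] {S : V →ₗ[K] V}

theorem ker_ne_top {b : V →ₗ[K] K} (hb : b ≠ 0) : LinearMap.ker b ≠ ⊤ :=
  fun e => hb (LinearMap.ker_eq_top.1 e)

theorem comap_ne_top (hsm : ¬ Small S) (c : V) :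
    Submodule.comap (S - LinearMap.id) (Submodule.span K {c}) ≠ ⊤ := by
  intro e
  refine hsm ⟨c, fun x => ?_⟩
  have hx : x ∈ Submodule.comap (S - LinearMap.id) (Submodule.span K {c}) := e ▸ Submodule.mem_top
  obtain ⟨t, ht⟩ := Submodule.mem_span_singleton.1 hx
  exact ⟨t, ht.symm⟩

/-- a fixed vector exists: a vector outside the image of `S - 1` -/
theorem exists_v_fixed (h4 : Four K) (hsm : ¬ Small S) {k : V} (hk : S k = k) (hk0 : k ≠ 0) (c : V)
    {b : V →ₗ[K] K} (hb : b ≠ 0) :
    ∃ v : V, b v ≠ 0 ∧ (∀ x, S x - x ≠ v) ∧ (∀ t : K, S v - v ≠ t • c) ∧ (∀ μ : K, S v ≠ μ • v) := by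
  have hR : LinearMap.range (S - LinearMap.id) ≠ ⊤ := by
    intro e
    have hi := LinearMap.injective_iff_surjective.2 (LinearMap.range_eq_top.1 e)
    exact hk0 (hi (by simp [hk]))
  obtain ⟨v, h1, h2, h3⟩ := exists_notMem_three h4 (ker_ne_top hb) hR (comap_ne_top hsm c)
  have hc : ∀ t : K, S v - v ≠ t • c := fun t e => h3 (Submodule.mem_span_singleton.2 ⟨t, e.symm⟩)
  refine ⟨v, fun e => h1 e, fun x e => h2 ⟨x, e⟩, hc, fun μ e => ?_⟩
  by_cases hμ : μ = 1
  · exact hc 0 (by rw [e, hμ, one_smul, sub_self, zero_smul])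
  · refine h2 ⟨(μ - 1)⁻¹ • v, ?_⟩
    show S ((μ - 1)⁻¹ • v) - (μ - 1)⁻¹ • v = v
    rw [map_smul, ← smul_sub, e, show μ • v - v = (μ - 1) • v by module, smul_smul,
      inv_mul_cancel₀ (sub_ne_zero.2 hμ), one_smul]

/-- no fixed vector -/
theorem exists_v_free (h4 : Four K) (hsm : ¬ Small S) (hns : ¬ Scalar S) (hdet : LinearMap.det S = 1)
    (hfree : ∀ x, S x = x → x = 0) (c : V) {b : V →ₗ[K] K} (hb : b ≠ 0) :
    ∃ v : V, b v ≠ 0 ∧ (∀ t : K, S v - v ≠ t • c) ∧ (∀ μ : K, S v ≠ μ • v) ∧
      (finrank K V = 3 → ∀ t : K, S v ≠ t • (S (S v - v) - (S v - v))) := by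
  let N : V →ₗ[K] V := S - LinearMap.id
  have hN : ∀ x, N x = S x - x := fun x => rfl
  have hinj : Function.Injective N := by
    rw [← LinearMap.ker_eq_bot, LinearMap.ker_eq_bot']
    intro x hx
    exact hfree x (sub_eq_zero.1 hx)
  let e := LinearEquiv.ofInjectiveEndo N hinj
  have he : ∀ x, e x = N x := fun x => rfl
  have heS : ∀ x, e (S x) = S (e x) := by
    intro x
    rw [he, he, hN, hN, map_sub]
  have hns' : ∀ μ : K, ∃ x, S x ≠ μ • x := by
    intro μ
    by_contra h
    push Not at h
    exact hns ⟨μ, h⟩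
  by_cases h3 : finrank K V = 3
  · let T : V →ₗ[K] V := (e.symm : V →ₗ[K] V).comp ((e.symm : V →ₗ[K] V).comp S)
    have hT : ∀ (x : V) (t : K), T x = t • x ↔ S x = t • N (N x) := by
      intro x t
      show e.symm (e.symm (S x)) = t • x ↔ _
      rw [LinearEquiv.symm_apply_eq, LinearEquiv.symm_apply_eq, map_smul, map_smul, he, he]
    obtain ⟨w0, hw0⟩ : ∃ w0 : V, ∀ μ : K, S w0 ≠ μ • w0 := by
      obtain ⟨x, -, -, hx⟩ := exists_notMem_noneigen h4 S hns' (ker_ne_top hb) (ker_ne_top hb)
      exact ⟨x, hx⟩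
    have hTns : ∀ μ : K, ∃ x, T x ≠ μ • x := by
      intro μ
      by_contra h
      push Not at h
      by_cases hμ : μ = 0
      · refine hw0 0 ?_
        rw [(hT w0 μ).1 (h w0), hμ, zero_smul, zero_smul]
      · exact aux_not_scalar h3 hdet hw0 hμ fun x => (hT x μ).1 (h x)
    obtain ⟨v, h1, h2, h3'⟩ := exists_notMem_noneigen h4 T hTns (ker_ne_top hb) (comap_ne_top hsm c)
    refine ⟨v, fun e' => h1 e', fun t e' => h2 (Submodule.mem_span_singleton.2 ⟨t, e'.symm⟩), ?_,
      fun _ t e' => h3' t ((hT v t).2 e')⟩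
    intro μ hμ
    have hv0 : v ≠ 0 := fun e' => h1 (e' ▸ Submodule.zero_mem _)
    have hNv : N v = (μ - 1) • v := by rw [hN, hμ]; module
    have hμ1 : μ - 1 ≠ 0 := fun e' => hv0 (hinj (by rw [hNv, e', zero_smul, map_zero]))
    refine h3' (μ * ((μ - 1) * (μ - 1))⁻¹) ((hT v _).2 ?_)
    rw [hNv, map_smul, hNv, smul_smul, smul_smul, hμ]
    congr 1
    field_simp
  · obtain ⟨v, h1, h2, h3'⟩ := exists_notMem_noneigen h4 S hns' (ker_ne_top hb) (comap_ne_top hsm c)
    exact ⟨v, fun e' => h1 e', fun t e' => h2 (Submodule.mem_span_singleton.2 ⟨t, e'.symm⟩), h3',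
      fun h => absurd h h3⟩

theorem two_ne_zero_of_scalar_red {v : V} {f : V →ₗ[K] K} (hfv : f v = 1) (hfS : f (S v) = 1)
    (h2 : finrank K (LinearMap.ker f) = 2) (hdet : LinearMap.det S = 1)
    (hs : Scalar (red S v f hfS)) (hsm : ¬ Small (red S v f hfS)) : (2 : K) ≠ 0 := by
  obtain ⟨a, ha⟩ := hs
  intro h20
  have hd := det_red hfv hfS hdet
  rw [show red S v f hfS = a • LinearMap.id from LinearMap.ext fun x => by rw [ha x]; rfl,
    LinearMap.det_smul, LinearMap.det_id, mul_one, h2] at hd
  have ha1 : a - 1 = 0 := sq_eq_zero_iff.1 (by linear_combination hd + (1 - a) * h20)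
  exact hsm ⟨0, fun x => ⟨0, by rw [ha x, sub_eq_zero.1 ha1, one_smul, sub_self, zero_smul]⟩⟩

end Select

theorem finrank_ker_functional {V : Type u2} [AddCommGroup V] [Module K V] [FiniteDimensional K V] {n : ℕ}
    (hV : finrank K V = n + 1) {f : V →ₗ[K] K} {v : V} (hfv : f v = 1) :
    finrank K (LinearMap.ker f) = n := by
  have h := LinearMap.finrank_range_add_finrank_ker f
  rw [LinearMap.range_eq_top.2 fun t => ⟨t • v, by simp [hfv]⟩, finrank_top, finrank_self, hV] at h
  omega

/-- the third target: excludes small and even scalar reductions -/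
theorem exists_target {V : Type u2} [AddCommGroup V] [Module K V] [FiniteDimensional K V] {n : ℕ}
    (hV : finrank K V = n + 2) (h4 : Four K) {S : V →ₗ[K] V} (hdet : LinearMap.det S = 1)
    (hsm : ¬ Small S) (hns : ¬ Scalar S) (c : V) {b : V →ₗ[K] K} (hb : b ≠ 0) :
    ∃ v : V, b v ≠ 0 ∧ (∀ t : K, S v - v ≠ t • c) ∧ (∀ μ : K, S v ≠ μ • v) ∧
      ∀ z2 : V, z2 ∉ Submodule.span K {S v - v} → ∃ z3 : V, z3 ∉ Submodule.span K {S v - v} ∧
        (∀ (f : V →ₗ[K] K) (_ : f v = 1) (hfS : f (S v) = 1), f z3 ≠ 0 → 1 ≤ n →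
          ¬ Small (red S v f hfS)) ∧
        (z3 = z2 ∨ ∀ (f : V →ₗ[K] K) (_ : f v = 1) (hfS : f (S v) = 1), f z3 ≠ 0 → 1 ≤ n →
          Scalar (red S v f hfS) → (2 : K) ≠ 0) := by
  let N : V →ₗ[K] V := S - LinearMap.id
  have hN : ∀ x, N x = S x - x := fun x => rfl
  have hscal3 : ∀ (v : V) (f : V →ₗ[K] K) (_ : f v = 1) (hfS : f (S v) = 1), n = 1 →
      ¬ Small (red S v f hfS) → Scalar (red S v f hfS) → (2 : K) ≠ 0 := fun v f hfv hfS hn h1 h2 =>
    two_ne_zero_of_scalar_red hfv hfS (finrank_ker_functional (by omega) hfv) hdet h2 h1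
  by_cases hfree : ∀ x, S x = x → x = 0
  · -- no fixed vector
    obtain ⟨v, hbv, hvc, hne, h3⟩ := exists_v_free h4 hsm hns hdet hfree c hb
    refine ⟨v, hbv, hvc, hne, fun z2 hz2 => ?_⟩
    have hinj : Function.Injective N := by
      rw [← LinearMap.ker_eq_bot, LinearMap.ker_eq_bot']
      intro x hx
      exact hfree x (sub_eq_zero.1 hx)
    have hdim : ∀ (f : V →ₗ[K] K), f v = 1 → finrank K ((LinearMap.ker f).map N) = n + 1 := fun f hfv => by
      rw [← (Submodule.equivMapOfInjective N hinj _).finrank_eq, finrank_ker_functional hV hfv]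
    have hsmall : ∀ (f : V →ₗ[K] K) (hfv : f v = 1) (hfS : f (S v) = 1), Small (red S v f hfS) →
        ∃ z : V, (LinearMap.ker f).map N ≤ Submodule.span K ({z, S v} : Set V) := by
      intro f hfv hfS h
      obtain ⟨z, -, hz⟩ := line_of_small_red hfv hfS h
      refine ⟨z, ?_⟩
      rintro _ ⟨w, hw, rfl⟩
      obtain ⟨t, s, e⟩ := hz w (LinearMap.mem_ker.1 hw)
      exact Submodule.mem_span_pair.2 ⟨t, s, e.symm⟩
    by_cases hn : n = 1
    · obtain ⟨z3, hz3⟩ := (LinearMap.injective_iff_surjective.1 hinj) (S v)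
      have hkey : ∀ (f : V →ₗ[K] K) (_ : f v = 1) (hfS : f (S v) = 1), f z3 ≠ 0 → 1 ≤ n →
          ¬ Small (red S v f hfS) := by
        intro f hfv hfS hfz _ h
        obtain ⟨z, hle⟩ := hsmall f hfv hfS h
        have heq := Submodule.eq_of_le_of_finrank_le hle (by
          rw [hdim f hfv]
          exact (finrank_span_pair_le z (S v)).trans (by omega))
        have : S v ∈ (LinearMap.ker f).map N := heq ▸ Submodule.subset_span (by simp)
        obtain ⟨w, hw, hw'⟩ := this
        exact hfz (by rw [← hinj (hw'.trans hz3.symm)]; exact LinearMap.mem_ker.1 hw)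
      refine ⟨z3, fun hmem => ?_, hkey,
        Or.inr fun f hfv hfS hfz h1 => hscal3 v f hfv hfS hn (hkey f hfv hfS hfz h1)⟩
      obtain ⟨t, ht⟩ := Submodule.mem_span_singleton.1 hmem
      refine h3 (by omega) t ?_
      conv_lhs => rw [← hz3, ← ht, map_smul, hN]
    · refine ⟨z2, hz2, fun f hfv hfS _ h1 h => ?_, Or.inl rfl⟩
      obtain ⟨z, hle⟩ := hsmall f hfv hfS h
      have h' := (Submodule.finrank_mono hle).trans (finrank_span_pair_le z (S v))
      rw [hdim f hfv] at h'
      omega
  · -- a fixed vector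
    push Not at hfree
    obtain ⟨k0, hk0, hk00⟩ := hfree
    obtain ⟨v, hbv, hvR, hvc, hne⟩ := exists_v_fixed h4 hsm hk0 hk00 c hb
    refine ⟨v, hbv, hvc, hne, fun z2 hz2 => ?_⟩
    set u := S v - v with hu
    have hSvR : ∀ x, N x ≠ S v := fun x e => hvR (x - v) (by
      rw [hN] at e
      rw [map_sub]
      linear_combination (norm := module) e)
    have hline : ∀ (f : V →ₗ[K] K) (hfv : f v = 1) (hfS : f (S v) = 1), Small (red S v f hfS) →
        ∃ z' : V, ∀ w, f w = 0 → ∃ t : K, N w = t • z' := by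
      intro f hfv hfS h
      obtain ⟨z, -, hz⟩ := line_of_small_red hfv hfS h
      by_cases hall : ∀ w, f w = 0 → N w = 0
      · exact ⟨0, fun w hw => ⟨0, by rw [hall w hw, smul_zero]⟩⟩
      push Not at hall
      obtain ⟨w0, hw0, hne0⟩ := hall
      obtain ⟨t0, s0, e0⟩ := hz w0 hw0
      rw [← hN] at e0
      have hnot : ∀ (x : V) (s : K), N x = s • S v → s = 0 := fun x s e => by
        by_contra hs
        exact hSvR (s⁻¹ • x) (by rw [map_smul, e, smul_smul, inv_mul_cancel₀ hs, one_smul])
      have ht0 : t0 ≠ 0 := fun h0 => by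
        rw [h0, zero_smul, zero_add] at e0
        rw [hnot w0 s0 e0, zero_smul] at e0
        exact hne0 e0
      refine ⟨N w0, fun w hw => ?_⟩
      obtain ⟨t, s, e⟩ := hz w hw
      rw [← hN] at e
      refine ⟨t * t0⁻¹, ?_⟩
      have hx : N (w - (t * t0⁻¹) • w0) = (s - t * t0⁻¹ * s0) • S v := by
        rw [map_sub, map_smul, e, e0, smul_add, smul_smul, mul_assoc t, inv_mul_cancel₀ ht0, mul_one]
        module
      have := hnot _ _ hx
      rw [this, zero_smul, map_sub, map_smul, sub_eq_zero] at hx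
      exact hx
    by_cases hR2 : ∃ p q : V, ∀ x, N x ∈ Submodule.span K ({p, q} : Set V)
    · by_cases hk : ∃ k, S k = k ∧ k ∉ Submodule.span K {u}
      · obtain ⟨k, hk1, hk2⟩ := hk
        have hkey : ∀ (f : V →ₗ[K] K) (_ : f v = 1) (hfS : f (S v) = 1), f k ≠ 0 → 1 ≤ n →
            ¬ Small (red S v f hfS) := by
          intro f hfv hfS hfk _ h
          obtain ⟨z', hz'⟩ := hline f hfv hfS h
          refine hsm ⟨z', fun x => ?_⟩
          obtain ⟨t, ht⟩ := hz' (x - (f x / f k) • k) (by simp [hfk])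
          refine ⟨t, ?_⟩
          rw [map_sub, map_smul, hN k, hk1, sub_self, smul_zero, sub_zero, hN] at ht
          exact ht
        refine ⟨k, hk2, hkey, Or.inr fun f hfv hfS hfk h1 hsc => ?_⟩
        by_cases hn : n = 1
        · exact hscal3 v f hfv hfS hn (hkey f hfv hfS hfk h1) hsc
        exfalso
        obtain ⟨p, q, hpq⟩ := hR2
        obtain ⟨a, ha⟩ := hsc
        have ha1 : a - 1 ≠ 0 := fun e => hkey f hfv hfS hfk h1 ⟨0, fun x =>
          ⟨0, by rw [ha x, sub_eq_zero.1 e, one_smul, sub_self, zero_smul]⟩⟩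
        set M := Submodule.span K ({p, q} : Set V) ⊔ Submodule.span K {v}
        have hNM : ∀ x, N x ∈ M := fun x => Submodule.mem_sup_left (hpq x)
        have hvM : v ∈ M := Submodule.mem_sup_right (Submodule.mem_span_singleton_self v)
        have hSvM : S v ∈ M := by
          have := M.add_mem (hNM v) hvM
          rwa [hN, sub_add_cancel] at this
        have hall : ∀ x, x ∈ M := by
          intro x
          have hw : f (x - f x • v) = 0 := by simp [hfv]
          set w := x - f x • v with hwdef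
          have e := congrArg Subtype.val (ha ⟨w, LinearMap.mem_ker.2 hw⟩)
          simp only [Submodule.coe_smul, coe_red] at e
          have e2 : (a - 1) • w = N w - f (S w) • S v := by
            rw [hN]; linear_combination (norm := module) -e
          have hwM : w ∈ M := (M.smul_mem_iff ha1).1 (e2 ▸ M.sub_mem (hNM w) (M.smul_mem _ hSvM))
          have := M.add_mem hwM (M.smul_mem (f x) hvM)
          rwa [hwdef, sub_add_cancel] at this
        have hdimM : finrank K M ≤ 3 := by
          refine (Submodule.finrank_add_le_finrank_add_finrank _ _).trans ?_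
          have h1 := finrank_span_pair_le (K := K) p q
          have h2 : finrank K (Submodule.span K {v}) ≤ 1 := by
            by_cases hv0 : v = 0
            · rw [hv0, Submodule.span_zero_singleton, finrank_bot]; omega
            · rw [finrank_span_singleton hv0]
          omega
        rw [Submodule.eq_top_iff'.2 hall, finrank_top, hV] at hdimM
        omega
      · -- impossible beyond dimension two
        refine ⟨z2, hz2, fun f hfv hfS _ h1 h => ?_, Or.inl rfl⟩
        push Not at hk
        obtain ⟨p, q, hpq⟩ := hR2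
        have hker : finrank K (LinearMap.ker N) ≤ 1 := by
          have hle : LinearMap.ker N ≤ Submodule.span K {u} := fun x hx =>
            hk x (sub_eq_zero.1 (LinearMap.mem_ker.1 hx))
          refine (Submodule.finrank_mono hle).trans ?_
          by_cases hu0 : u = 0
          · rw [hu0, Submodule.span_zero_singleton, finrank_bot]; omega
          · rw [finrank_span_singleton hu0]
        have hrange : finrank K (LinearMap.range N) ≤ 2 := by
          refine (Submodule.finrank_mono (t := Submodule.span K ({p, q} : Set V)) ?_).trans (finrank_span_pair_le p q)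
          rintro _ ⟨x, rfl⟩
          exact hpq x
        have hd := LinearMap.finrank_range_add_finrank_ker N
        rw [hV] at hd
        obtain ⟨t, ht⟩ := Submodule.mem_span_singleton.1 (hk k0 hk0)
        refine false_of_kernel (by omega : finrank K V = 3) hdet hsm hvR ?_ fun x hx => ?_
        · have ht0 : t ≠ 0 := fun e => hk00 (by rw [← ht, e, zero_smul])
          rw [← ht, map_smul] at hk0
          exact smul_right_injective V ht0 hk0
        · obtain ⟨s, hs⟩ := Submodule.mem_span_singleton.1 (hk x hx)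
          exact ⟨s, hs.symm⟩
    · refine ⟨z2, hz2, fun f hfv hfS _ h1 h => hR2 ?_, Or.inl rfl⟩
      obtain ⟨z', hz'⟩ := hline f hfv hfS h
      refine ⟨z', u, fun x => ?_⟩
      obtain ⟨t, ht⟩ := hz' (x - f x • v) (by simp [hfv])
      rw [map_sub, map_smul, sub_eq_iff_eq_add, hN v] at ht
      rw [ht]
      exact Submodule.mem_span_pair.2 ⟨t, f x, rfl⟩

/-- the factorisation with both general-position conditions -/
theorem exists_split (h4 : Four K) : ∀ (n : ℕ) (V : Type u2) [AddCommGroup V] [Module K V]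
    [FiniteDimensional K V] (_ : finrank K V = n + 1) (S : V →ₗ[K] V) (_ : LinearMap.det S = 1)
    (_ : n = 0 ∨ (¬ Small S ∧ ¬ Scalar S)) (c : V) (_ : c ≠ 0) (b : V →ₗ[K] K) (_ : b ≠ 0),
    Split (n + 1) S c b := by
  intro n
  induction n with
  | zero =>
    intro V _ _ _ hV S hdet _ c hc b hb
    obtain ⟨w, hw0, hw⟩ := finrank_eq_one_iff'.1 (hV.trans (zero_add 1))
    obtain ⟨μ, hμ⟩ := hw (S w)
    have hS : S = μ • LinearMap.id := LinearMap.ext fun x => by
      obtain ⟨t, rfl⟩ := hw x
      rw [map_smul, ← hμ, LinearMap.smul_apply, LinearMap.id_apply, smul_smul, smul_smul, mul_comm]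
    rw [hS, LinearMap.det_smul, LinearMap.det_id, mul_one, hV, zero_add, pow_one] at hdet
    refine ⟨1, 1, ?_, ?_, ?_, ?_, ?_⟩
    · rw [mul_one, hS, hdet, one_smul]; rfl
    · simp
    · simpa using hc
    · simp
    · intro e
      exact hb (LinearMap.ext fun x => by simpa using LinearMap.congr_fun e x)
  | succ n ih =>
    intro V _ _ _ hV S hdet hS c hc b hb
    obtain ⟨hsm, hns⟩ := hS.resolve_left (Nat.succ_ne_zero n)
    let N : V →ₗ[K] V := S - LinearMap.id
    have hN : ∀ x, N x = S x - x := fun x => rfl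
    obtain ⟨v, hbv, hvc, hne, htarget⟩ := exists_target hV h4 hdet hsm hns c hb
    set u := S v - v with hu
    have hu0 : u ≠ 0 := fun e => hvc 0 (by rw [e, zero_smul])
    have hvu : v ∉ Submodule.span K {u} := by
      intro h
      obtain ⟨t, ht⟩ := Submodule.mem_span_singleton.1 h
      have ht0 : t ≠ 0 := fun e => by
        rw [e, zero_smul] at ht
        exact hne 0 (by rw [← ht, map_zero, smul_zero])
      refine hne (1 + t⁻¹) ?_
      have : t⁻¹ • v = u := by rw [← ht, smul_smul, inv_mul_cancel₀ ht0, one_smul]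
      rw [add_smul, one_smul, this, hu]
      abel
    have hcu : c ∉ Submodule.span K {u} := by
      intro h
      obtain ⟨t, ht⟩ := Submodule.mem_span_singleton.1 h
      have ht0 : t ≠ 0 := fun e => by rw [e, zero_smul] at ht; exact hc ht.symm
      exact hvc t⁻¹ (by rw [← ht, smul_smul, inv_mul_cancel₀ ht0, one_smul])
    obtain ⟨x0, hx0⟩ : ∃ x0, N x0 ∉ Submodule.span K {u} := by
      by_contra h
      push Not at h
      refine hsm ⟨u, fun x => ?_⟩
      obtain ⟨t, ht⟩ := Submodule.mem_span_singleton.1 (h x)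
      exact ⟨t, ht.symm⟩
    obtain ⟨z3, hz3, hkey, hsc⟩ := htarget (N x0) hx0
    have hfS : ∀ f : V →ₗ[K] K, f u = 0 → f v = 1 → f (S v) = 1 := fun f hfu hfv => by
      have : f (S v - v) = 0 := hfu
      rw [map_sub, hfv, sub_eq_zero] at this
      exact this
    obtain ⟨f, hfu, hfv, hfc, hfx, hfz, hgood⟩ : ∃ f : V →ₗ[K] K, ∃ (hfu : f u = 0) (hfv : f v = 1),
        f c ≠ 0 ∧ f (N x0) ≠ 0 ∧ f z3 ≠ 0 ∧
          (1 ≤ n → ¬ Scalar (red S v f (hfS f hfu hfv))) := by
      obtain ⟨f, hfu, hfv, hfc, hfx, hfz⟩ := exists_functional h4 hvu hcu hx0 hz3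
      by_cases hsc1 : 1 ≤ n ∧ Scalar (red S v f (hfS f hfu hfv))
      swap
      · exact ⟨f, hfu, hfv, hfc, hfx, hfz, fun h1 h2 => hsc1 ⟨h1, h2⟩⟩
      obtain ⟨h1, hscal⟩ := hsc1
      obtain ⟨y, hy⟩ := SetLike.exists_not_mem_of_ne_top (Submodule.span K ({u, v} : Set V)) (fun e => by
        have := finrank_span_pair_le (K := K) u v
        rw [e, finrank_top, hV] at this
        omega)
      obtain ⟨φ, hφ, hφy⟩ := exists_dual hy
      have hφu : φ u = 0 := hφ u (Submodule.subset_span (by simp))
      have hφv : φ v = 0 := hφ v (Submodule.subset_span (by simp))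
      have uniq : ∀ (z : V) (t t' : K), f z ≠ 0 → f z + t * φ z = 0 → f z + t' * φ z = 0 → t = t' := by
        intro z t t' hz h h'
        by_cases hφz : φ z = 0
        · rw [hφz, mul_zero, add_zero] at h
          exact absurd h hz
        · exact mul_right_cancel₀ hφz (by linear_combination h - h')
      obtain ⟨t, ht0, ht1, ht2, ht3⟩ : ∃ t : K, t ≠ 0 ∧ f c + t * φ c ≠ 0 ∧
          f (N x0) + t * φ (N x0) ≠ 0 ∧ f z3 + t * φ z3 ≠ 0 := by
        rcases hsc with hz | h2
        · obtain ⟨t, ht⟩ := exists_avoid (three_lt h4 (k := 3) le_rfl)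
            ![fun t : K => t = 0, fun t : K => f c + t * φ c = 0,
              fun t : K => f (N x0) + t * φ (N x0) = 0] (by
              intro i t t' h h'
              fin_cases i
              · exact (h : t = 0).trans (h' : t' = 0).symm
              · exact uniq c t t' hfc h h'
              · exact uniq _ t t' hfx h h')
          exact ⟨t, ht 0, ht 1, ht 2, by rw [hz]; exact ht 2⟩
        · obtain ⟨t, ht⟩ := exists_avoid (five_le h4 (h2 f hfv (hfS f hfu hfv) hfz h1 hscal))
            ![fun t : K => t = 0, fun t : K => f c + t * φ c = 0,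
              fun t : K => f (N x0) + t * φ (N x0) = 0, fun t : K => f z3 + t * φ z3 = 0] (by
              intro i t t' h h'
              fin_cases i
              · exact (h : t = 0).trans (h' : t' = 0).symm
              · exact uniq c t t' hfc h h'
              · exact uniq _ t t' hfx h h'
              · exact uniq _ t t' hfz h h')
          exact ⟨t, ht 0, ht 1, ht 2, ht 3⟩
      have hgu : (f + t • φ) u = 0 := by simp [hfu, hφu]
      have hgv : (f + t • φ) v = 1 := by simp [hfv, hφv]
      refine ⟨f + t • φ, hgu, hgv, by simpa using ht1, by simpa using ht2, by simpa using ht3, fun _ h2 => ?_⟩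
      refine not_two_scalar hfv (hfS f hfu hfv) (by omega) hdet hne hgv (hfS _ hgu hgv) (fun e => ?_) hscal h2
      have e2 := LinearMap.congr_fun e y
      simp [ht0, hφy] at e2
    have hfSv := hfS f hfu hfv
    have hdim : finrank K (LinearMap.ker f) = n + 1 := finrank_ker_functional hV hfv
    refine split_of_red hfv hfSv hfc hbv (ih _ hdim _ (det_red hfv hfSv hdet) ?_ _ ?_ _ ?_)
    · rcases Nat.eq_zero_or_pos n with h | h
      · exact Or.inl h
      · exact Or.inr ⟨hkey f hfv hfSv hfz h, hgood h⟩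
    · intro e
      exact hu0 (congrArg Subtype.val e)
    · intro e
      apply hfx
      have e' := LinearMap.congr_fun e ⟨x0 - f x0 • v, LinearMap.mem_ker.2 (by simp [hfv])⟩
      simp only [LinearMap.comp_apply, Submodule.coe_subtype, LinearMap.zero_apply, map_sub, map_smul,
        hfSv, smul_eq_mul, mul_one] at e'
      rw [hN, map_sub]
      exact e'

end CfsgLib.RegUnipProduct
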