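import Cfsg.Agent.Lib.RegUnipProduct.Main

/-! Products of two regular unipotent maps, and the passage to matrices. -/

set_option autoImplicit false

universe u1 u2

namespace CfsgLib.RegUnipProduct

open Module Matrix

variable {K : Type u1} [Field K] {V : Type u2} [AddCommGroup V] [Module K V] [FiniteDimensional K V]

/-- regular unipotent -/
def Reg (n : ℕ) (U : Module.End K V) : Prop := (U - 1) ^ n = 0 ∧ (U - 1) ^ (n - 1) ≠ 0

theorem shift_pow {k : ℕ} (e : Basis (Fin (k + 1)) K V) (C : Module.End K V) (w : Fin k → K)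
    (h0 : C (e 0) = 0) (hs : ∀ j : Fin k, C (e j.succ) = w j • e j.castSucc) (hw : ∀ j, w j ≠ 0) :
    C ^ (k + 1) = 0 ∧ C ^ k ≠ 0 := by
  have hlt : ∀ (j : ℕ) (hj : j < k + 1) (m : ℕ), j < m → (C ^ m) (e ⟨j, hj⟩) = 0 := by
    intro j
    induction j with
    | zero =>
      intro hj m hm
      obtain ⟨m, rfl⟩ := Nat.exists_eq_succ_of_ne_zero (show m ≠ 0 by omega)
      rw [pow_succ, Module.End.mul_apply, show (⟨0, hj⟩ : Fin (k + 1)) = 0 from rfl, h0, map_zero]
    | succ j ih =>
      intro hj m hm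
      obtain ⟨m, rfl⟩ := Nat.exists_eq_succ_of_ne_zero (show m ≠ 0 by omega)
      rw [pow_succ, Module.End.mul_apply,
        show (⟨j + 1, hj⟩ : Fin (k + 1)) = (⟨j, by omega⟩ : Fin k).succ from rfl, hs, map_smul,
        show (⟨j, by omega⟩ : Fin k).castSucc = (⟨j, by omega⟩ : Fin (k + 1)) from rfl, ih _ m (by omega), smul_zero]
  have heq : ∀ (j : ℕ) (hj : j < k + 1), ∃ a : K, a ≠ 0 ∧ (C ^ j) (e ⟨j, hj⟩) = a • e 0 := by
    intro j
    induction j with
    | zero => intro hj; exact ⟨1, one_ne_zero, by rw [pow_zero, one_smul]; rfl⟩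
    | succ j ih =>
      intro hj
      obtain ⟨a, ha, he⟩ := ih (by omega)
      refine ⟨w ⟨j, by omega⟩ * a, mul_ne_zero (hw _) ha, ?_⟩
      rw [pow_succ, Module.End.mul_apply,
        show (⟨j + 1, hj⟩ : Fin (k + 1)) = (⟨j, by omega⟩ : Fin k).succ from rfl, hs, map_smul,
        show (⟨j, by omega⟩ : Fin k).castSucc = (⟨j, by omega⟩ : Fin (k + 1)) from rfl, he, smul_smul]
  refine ⟨e.ext fun i => by rw [hlt i.1 i.2 (k + 1) i.2]; rfl, fun h => ?_⟩
  obtain ⟨a, ha, he⟩ := heq k (Nat.lt_succ_self k)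
  rw [h, LinearMap.zero_apply] at he
  exact e.ne_zero 0 ((smul_eq_zero.1 he.symm).resolve_left ha)

/-- a transvection -/
theorem exists_pair_transvection (h4 : Four K) {k : ℕ} (hk : 1 ≤ k) (hV : finrank K V = k + 2)
    {S : Module.End K V} (hdet : LinearMap.det S = 1) (hS1 : S ≠ 1) (hsm : Small S) :
    ∃ L U : Module.End K V, S = L * U ∧ Reg (k + 2) L ∧ Reg (k + 2) U := by
  obtain ⟨z, hz⟩ := hsm
  have hz0 : z ≠ 0 := fun e => hS1 (LinearMap.ext fun x => by
    obtain ⟨t, ht⟩ := hz x
    rw [e, smul_zero, sub_eq_zero] at ht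
    rw [ht, Module.End.one_apply])
  obtain ⟨ψ0, -, hψ0⟩ := exists_dual (p := (⊥ : Submodule K V)) (z := z) (by simpa using hz0)
  set ψ : V →ₗ[K] K := (ψ0 z)⁻¹ • ψ0 with hψdef
  have hψz : ψ z = 1 := by simp [ψ, hψ0]
  let φ : V →ₗ[K] K := ψ.comp (S - LinearMap.id)
  have hφ : ∀ x, S x - x = φ x • z := by
    intro x
    obtain ⟨t, ht⟩ := hz x
    show S x - x = ψ (S x - x) • z
    rw [ht, map_smul, hψz, smul_eq_mul, mul_one]
  have hφz : φ z = 0 := by
    have hS : S = LinearMap.transvection φ z := LinearMap.ext fun x => by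
      show S x = x + φ x • z
      rw [← hφ]; abel
    rw [hS, LinearMap.transvection.det] at hdet
    linear_combination hdet
  obtain ⟨y, hy⟩ : ∃ y, φ y = 1 := by
    by_contra h
    push Not at h
    refine hS1 (LinearMap.ext fun x => ?_)
    have hx : φ x = 0 := by
      by_contra h0
      exact h ((φ x)⁻¹ • x) (by rw [map_smul, smul_eq_mul, inv_mul_cancel₀ h0])
    have := hφ x
    rw [hx, zero_smul, sub_eq_zero] at this
    rw [this, Module.End.one_apply]
  set y1 := y - ψ y • z with hy1
  have hφy1 : φ y1 = 1 := by simp [y1, hy, hφz]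
  have hψy1 : ψ y1 = 0 := by simp [y1, hψz]
  let pr : V →ₗ[K] K × K := ψ.prod φ
  have hsurj : Function.Surjective pr := fun p => ⟨p.1 • z + p.2 • y1, by
    simp [pr, hψz, hφz, hφy1, hψy1]⟩
  have hW : finrank K (LinearMap.ker pr) = k := by
    have h := LinearMap.finrank_range_add_finrank_ker pr
    rw [LinearMap.range_eq_top.2 hsurj, finrank_top, finrank_prod, finrank_self, hV] at h
    omega
  let b0 := finBasisOfFinrankEq K (LinearMap.ker pr) hW
  let ev : Fin (k + 2) → V := Fin.cons z (Fin.cons y1 fun i => (b0 i : V))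
  have hb0 : ∀ i, ψ (b0 i : V) = 0 ∧ φ (b0 i : V) = 0 := fun i => by
    have h := LinearMap.mem_ker.1 (b0 i).2
    exact ⟨congrArg Prod.fst h, congrArg Prod.snd h⟩
  have hli : LinearIndependent K ev := by
    rw [Fintype.linearIndependent_iff]
    intro g hg
    simp only [Fin.sum_univ_succ, ev, Fin.cons_zero, Fin.cons_succ] at hg
    have h0 := congrArg ψ hg
    have h1 := congrArg φ hg
    simp [hψz, hψy1, fun i => (hb0 i).1] at h0
    simp [hφz, hφy1, fun i => (hb0 i).2] at h1
    rw [show g (0 : Fin (k + 1)).succ = 0 from h1, h0, zero_smul, zero_smul, zero_add, zero_add] at hg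
    have h2 := Fintype.linearIndependent_iff.1 b0.linearIndependent (fun i => g i.succ.succ)
      (Subtype.ext (by simpa using hg))
    intro i
    induction i using Fin.cases with
    | zero => exact h0
    | succ j =>
      induction j using Fin.cases with
      | zero => exact h1
      | succ l => exact h2 l
  let e : Basis (Fin (k + 1 + 1)) K V := basisOfLinearIndependentOfCardEqFinrank hli (by rw [hV, Fintype.card_fin])
  have he : ⇑e = ev := coe_basisOfLinearIndependentOfCardEqFinrank _ _
  have hez : e 0 = z := by rw [he]; rfl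
  obtain ⟨a, ha⟩ := exists_avoid (three_lt h4 (k := 2) (by norm_num))
    ![fun t : K => t = 0, fun t : K => t + 1 = 0] (by
      intro i t t' h h'
      fin_cases i
      · exact (h : t = 0).trans (h' : t' = 0).symm
      · exact add_right_cancel ((h : t + 1 = 0).trans (h' : t' + 1 = 0).symm))
  have ha0 : a ≠ 0 := ha 0
  have ha1 : a + 1 ≠ 0 := ha 1
  let B : Module.End K V := e.constr K (Fin.cons 0 fun j : Fin (k + 1) => a • e j.castSucc)
  have hB0 : B (e 0) = 0 := by simp [B]
  have hBs : ∀ j : Fin (k + 1), B (e j.succ) = a • e j.castSucc := fun j => by simp [B]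
  obtain ⟨hBn, hBn'⟩ := shift_pow e B (fun _ => a) hB0 hBs (fun _ => ha0)
  set C : Module.End K V := (1 + B) * S - 1 with hC
  have hCe : ∀ x, C x = B x + φ x • z := by
    intro x
    have hBz : B z = 0 := by rw [← hez]; exact hB0
    have hSx : S x = x + φ x • z := by rw [← hφ]; abel
    simp [C, hSx, hBz]
    abel
  obtain ⟨hCn, hCn'⟩ := shift_pow e C (fun j => if j = 0 then a + 1 else a)
    (by rw [hCe, hB0, hez, hφz, zero_smul, add_zero]) (by
      intro j
      rw [hCe, hBs]
      induction j using Fin.cases with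
      | zero =>
        rw [if_pos rfl, show e (0 : Fin (k + 1)).succ = y1 by rw [he]; rfl, hφy1, one_smul,
          show e (0 : Fin (k + 1)).castSucc = z from hez, add_smul, one_smul]
      | succ l =>
        rw [if_neg (Fin.succ_ne_zero l), show φ (e l.succ.succ) = 0 by rw [he]; exact (hb0 l).2, zero_smul,
          add_zero]) (by
      intro j
      split
      exacts [ha1, ha0])
  obtain ⟨w, hw⟩ := IsNilpotent.isUnit_one_add (⟨_, hBn⟩ : IsNilpotent B)
  refine ⟨↑w⁻¹, ↑w * S, by rw [← mul_assoc, Units.inv_mul, one_mul], ?_, ⟨?_, ?_⟩⟩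
  swap
  · rw [hw]; exact hCn
  swap
  · rw [hw]; exact hCn'
  have hcomm : Commute B (↑w⁻¹ : Module.End K V) := by
    refine Commute.units_inv_right ?_
    rw [hw]
    exact (Commute.one_right B).add_right (Commute.refl B)
  have h1 : (↑w⁻¹ : Module.End K V) - 1 = -(B * ↑w⁻¹) := by
    have h2 : (1 + B) * (↑w⁻¹ : Module.End K V) = 1 := by rw [← hw, Units.mul_inv]
    rw [add_mul, one_mul] at h2
    linear_combination (norm := abel) h2
  constructor
  · rw [h1, neg_pow, hcomm.mul_pow, hBn, zero_mul, mul_zero]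
  · intro h
    rw [h1, neg_pow, hcomm.mul_pow, show k + 2 - 1 = k + 1 from rfl] at h
    apply hBn'
    have h' := congrArg (fun x => (-1 : Module.End K V) ^ (k + 1) * x * (↑w : Module.End K V) ^ (k + 1)) h
    simp only [mul_zero, zero_mul, ← mul_assoc] at h'
    rw [← pow_add, Even.neg_one_pow ⟨k + 1, rfl⟩, one_mul, mul_assoc, ← (Commute.units_inv_left (Commute.refl (↑w : Module.End K V))).mul_pow, Units.inv_mul, one_pow, mul_one] at h'
    exact h'

theorem exists_pair (h4 : Four K) {k : ℕ} (hk : 1 ≤ k) (hV : finrank K V = k + 2) {S : Module.End K V}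
    (hdet : LinearMap.det S = 1) (hns : ¬ Scalar S) :
    ∃ L U : Module.End K V, S = L * U ∧ Reg (k + 2) L ∧ Reg (k + 2) U := by
  by_cases hsm : Small S
  · exact exists_pair_transvection h4 hk hV hdet (fun e => hns ⟨1, fun x => by rw [e, one_smul, Module.End.one_apply]⟩) hsm
  haveI : Nontrivial V := Module.nontrivial_of_finrank_eq_succ hV
  obtain ⟨c, hc⟩ := exists_ne (0 : V)
  obtain ⟨b, -, hb⟩ := exists_dual (p := (⊥ : Submodule K V)) (z := c) (by simpa using hc)
  obtain ⟨L, U, hLU, h1, h2, h3, h5⟩ := exists_split h4 (k + 1) V hV S hdet (Or.inr ⟨hsm, hns⟩) c hc b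
    (fun e => hb (by rw [e]; rfl))
  exact ⟨L, U, hLU, ⟨h1, fun e => h2 (by rw [e]; rfl)⟩, ⟨h3, fun e => h5 (by rw [e]; exact LinearMap.comp_zero b)⟩⟩

/-- regular unipotent maps of the coordinate space are conjugate to the standard one -/
theorem exists_conj_std {n : ℕ} (J : GL (Fin n) K)
    (hJ : ∀ i j : Fin n, (J : Matrix (Fin n) (Fin n) K) i j = if i = j then 1 else if j.val = i.val + 1 then 1 else 0)
    {U : Module.End K (Fin n → K)} (hU : Reg n U) :
    ∃ x : GL (Fin n) K, ((x * J * x⁻¹ : GL (Fin n) K) : Matrix (Fin n) (Fin n) K) = LinearMap.toMatrix' U := by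
  obtain ⟨h0, h1⟩ := hU
  set N := U - 1 with hN
  obtain ⟨c, hc⟩ : ∃ c, (N ^ (n - 1)) c ≠ 0 := by
    by_contra h
    push Not at h
    exact h1 (LinearMap.ext h)
  have hbig : ∀ m, n ≤ m → (N ^ m) c = 0 := fun m hm => by
    rw [← Nat.sub_add_cancel hm, pow_add, h0, mul_zero]; rfl
  let f : Fin n → (Fin n → K) := fun i => (N ^ (n - 1 - i.val)) c
  have hli : LinearIndependent K f := by
    rw [Fintype.linearIndependent_iff]
    intro g hg i
    induction hi : n - 1 - i.val using Nat.strong_induction_on generalizing i with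
    | _ d ih =>
      have h := congrArg (N ^ (i.val)) hg
      rw [map_zero, map_sum, Finset.sum_eq_single i] at h
      · simp only [f, map_smul, ← Module.End.mul_apply, ← pow_add] at h
        rw [show i.val + (n - 1 - i.val) = n - 1 by have := i.2; omega] at h
        exact (smul_eq_zero.1 h).resolve_right hc
      · intro j _ hj
        rcases lt_or_gt_of_ne (fun e => hj (Fin.ext e) : j.val ≠ i.val) with hlt | hgt
        · simp only [f, map_smul, ← Module.End.mul_apply, ← pow_add]
          rw [hbig _ (by have := i.2; omega), smul_zero]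
        · rw [ih (n - 1 - j.val) (by have := j.2; omega) j rfl, zero_smul, map_zero]
      · simp
  let P : Matrix (Fin n) (Fin n) K := Matrix.of fun i j => f j i
  have hP : IsUnit P := by
    rw [← Matrix.linearIndependent_cols_iff_isUnit]
    exact hli
  have hPJ : LinearMap.toMatrix' U * P = P * (J : Matrix (Fin n) (Fin n) K) := by
    have hJmv : ∀ j : Fin n, (fun i => (P * (J : Matrix (Fin n) (Fin n) K)) i j) =
        f j + (if h : j.val = 0 then 0 else f ⟨j.val - 1, by have := j.2; omega⟩) := by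
      intro j
      funext i
      simp only [Matrix.mul_apply, hJ, P, Matrix.of_apply, Pi.add_apply]
      by_cases hj0 : j.val = 0
      · rw [dif_pos hj0, Finset.sum_eq_single j]
        · simp
        · intro l _ hl
          rw [if_neg hl, if_neg (by omega), mul_zero]
        · simp
      · rw [dif_neg hj0]
        have hne : j ≠ (⟨j.val - 1, by have := j.2; omega⟩ : Fin n) := fun e => by
          have := congrArg Fin.val e
          simp at this
          omega
        rw [Finset.sum_eq_add j ⟨j.val - 1, by have := j.2; omega⟩ hne]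
        · rw [if_pos rfl, if_neg (Ne.symm hne), if_pos (show j.val = j.val - 1 + 1 by omega), mul_one, mul_one]
        · intro l _ hl
          rw [if_neg hl.1, if_neg (fun e => hl.2 (Fin.ext (by simp; omega))), mul_zero]
        · simp
        · simp
    ext i j
    have hl : (LinearMap.toMatrix' U * P) i j = U (f j) i := by
      rw [show U (f j) = LinearMap.toMatrix' U *ᵥ f j from (LinearMap.toMatrix'_mulVec U (f j)).symm]
      rfl
    rw [hl, congrFun (hJmv j) i]
    have hUN : ∀ x, U x = x + N x := fun x => by simp [hN]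
    rw [hUN]
    congr 2
    by_cases hj0 : j.val = 0
    · rw [dif_pos hj0]
      simp only [f, ← Module.End.mul_apply, ← pow_succ']
      rw [hbig (n - 1 - j.val + 1) (by omega)]
    · rw [dif_neg hj0]
      simp only [f, ← Module.End.mul_apply, ← pow_succ']
      rw [show n - 1 - j.val + 1 = n - 1 - (j.val - 1) by have := j.2; omega]
  refine ⟨hP.unit, ?_⟩
  rw [Units.val_mul, Units.val_mul, IsUnit.unit_spec, ← hPJ, mul_assoc,
    show P * ((hP.unit⁻¹ : GL (Fin n) K) : Matrix (Fin n) (Fin n) K) = 1 from hP.mul_val_inv, mul_one]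

theorem matrix_result (hK : 4 ≤ Cardinal.mk K) (n : ℕ) (hn : 3 ≤ n) (J g : GL (Fin n) K)
    (hJ : ∀ i j : Fin n, (J : Matrix (Fin n) (Fin n) K) i j = if i = j then 1 else if j.val = i.val + 1 then 1 else 0)
    (hg : ¬ ∃ c : K, (g : Matrix (Fin n) (Fin n) K) = c • (1 : Matrix (Fin n) (Fin n) K))
    (hdet : (g : Matrix (Fin n) (Fin n) K).det = 1) :
    ∃ x y : GL (Fin n) K, g = (x * J * x⁻¹) * (y * J * y⁻¹) := by
  obtain ⟨k, rfl⟩ : ∃ k, n = k + 2 := ⟨n - 2, by omega⟩
  obtain ⟨L, U, hLU, hL, hU⟩ := exists_pair (K := K) (V := Fin (k + 2) → K) hK (k := k) (by omega)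
    (Module.finrank_fin_fun K) (S := Matrix.toLin' (g : Matrix (Fin (k + 2)) (Fin (k + 2)) K))
    (by rw [LinearMap.det_toLin']; exact hdet) (by
      rintro ⟨c, hc⟩
      refine hg ⟨c, ?_⟩
      apply Matrix.toLin'.injective
      rw [map_smul, Matrix.toLin'_one]
      exact LinearMap.ext hc)
  obtain ⟨x, hx⟩ := exists_conj_std J hJ hL
  obtain ⟨y, hy⟩ := exists_conj_std J hJ hU
  refine ⟨x, y, Units.ext ?_⟩
  rw [Units.val_mul, hx, hy, ← LinearMap.toMatrix'_mul, ← hLU, LinearMap.toMatrix'_toLin']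

end CfsgLib.RegUnipProduct
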